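import Groth.Agent.Lib.GExistH7.Sys
import Groth.Agent.Lib.FormalH7.ModSec
import Groth.Agent.Lib.ModM1.Push
import Mathlib.AlgebraicGeometry.Noetherian

/-!
# Ideals with the same zero set on a noetherian scheme have cofinal powers on modules
-/

set_option autoImplicit false
set_option linter.style.haveILetI false
set_option backward.isDefEq.respectTransparency false

universe u

open CategoryTheory CategoryTheory.Limits AlgebraicGeometry Opposite TopologicalSpace

namespace Groth.Agent.CohChangeH7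

open Groth.Agent Groth.Agent.FormalH7

variable {A : Type u} [CommRing A]

/-- Killed by a power of `J` implies killed by a power of `I`. -/
def Tr (I J : Ideal A) (X : Scheme.{u}) [X.Over (Spec (CommRingCat.of A))] (c : ℕ) : Prop :=
  ∀ (n : ℕ) (M : X.Modules), Formal.KilledBy (J ^ n) M → Formal.KilledBy (I ^ (c * n)) M

variable {X : Scheme.{u}} [X.Over (Spec (CommRingCat.of A))]

theorem basicOpen_mult (W : X.Opens) (a : A) :
    X.basicOpen (multHom X W a) =
      W ⊓ (X ↘ Spec (CommRingCat.of A)) ⁻¹ᵁ PrimeSpectrum.basicOpen a := by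
  have h : (X ↘ Spec (CommRingCat.of A)) ⁻¹ᵁ PrimeSpectrum.basicOpen a =
      X.basicOpen (Coh.toGlobal (X ↘ Spec (CommRingCat.of A)) a) := by
    rw [← basicOpen_eq_of_affine (R := CommRingCat.of A) a]
    exact Scheme.preimage_basicOpen_top _ _
  rw [h]
  exact X.basicOpen_res _ _

theorem exists_map_pow_le {I J : Ideal A} [IsLocallyNoetherian X]
    (hV : ∀ x : X, J ≤ ((X ↘ Spec (CommRingCat.of A)) x).asIdeal → I ≤ ((X ↘ Spec (CommRingCat.of A)) x).asIdeal)
    {W : X.Opens} (hW : IsAffineOpen W) :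
    ∃ c : ℕ, (I ^ c).map (multHom X W) ≤ J.map (multHom X W) := by
  haveI : IsNoetherianRing Γ(X, W) := IsLocallyNoetherian.component_noetherian ⟨W, hW⟩
  have h : I.map (multHom X W) ≤ (J.map (multHom X W)).radical := by
    rw [Ideal.map_le_iff_le_comap]
    intro a ha
    rw [Ideal.mem_comap, Ideal.radical_eq_sInf, Submodule.mem_sInf]
    rintro P ⟨hJP, hP⟩
    by_contra haP
    let y : Spec Γ(X, W) := ⟨P, hP⟩
    have hy : ∀ b : A, hW.fromSpec y ∈ X.basicOpen (multHom X W b) ↔ multHom X W b ∉ P := fun b => by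
      show y ∈ hW.fromSpec ⁻¹ᵁ X.basicOpen (multHom X W b) ↔ _
      rw [hW.fromSpec_preimage_basicOpen]
      rfl
    have hx : ∀ b : A, hW.fromSpec y ∈ X.basicOpen (multHom X W b) ↔
        b ∉ ((X ↘ Spec (CommRingCat.of A)) (hW.fromSpec y)).asIdeal := fun b => by
      rw [basicOpen_mult]
      exact ⟨fun h => h.2, fun h => ⟨hW.range_fromSpec ▸ Set.mem_range_self y, h⟩⟩
    refine ((hx a).1 ((hy a).2 haP)) (hV _ (fun b hb => ?_) ha)
    by_contra hbx
    exact (hy b).1 ((hx b).2 hbx) (hJP (Ideal.mem_map_of_mem _ hb))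
  obtain ⟨c, hc⟩ := Ideal.exists_pow_le_of_le_radical_of_fg h (IsNoetherian.noetherian _)
  exact ⟨c, (Ideal.map_pow _ I c).trans_le hc⟩

theorem exists_tr {I J : Ideal A} [AlgebraicGeometry.IsNoetherian X]
    (hV : ∀ x : X, J ≤ ((X ↘ Spec (CommRingCat.of A)) x).asIdeal → I ≤ ((X ↘ Spec (CommRingCat.of A)) x).asIdeal) :
    ∃ c, Tr I J X c := by
  classical
  have hW : ∀ x : X, ∃ W : X.Opens, IsAffineOpen W ∧ x ∈ W := fun x => by
    obtain ⟨_, ⟨W, hW, rfl⟩, hx, -⟩ := X.isBasis_affineOpens.exists_subset_of_mem_open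
      (Set.mem_univ x) isOpen_univ
    exact ⟨W, hW, hx⟩
  choose W hWa hWx using hW
  obtain ⟨t, ht⟩ := isCompact_univ.elim_finite_subcover (fun x => (W x : Set X)) (fun x => (W x).2)
    fun x _ => Set.mem_iUnion.2 ⟨x, hWx x⟩
  choose c hc using fun x => exists_map_pow_le hV (hWa x)
  refine ⟨t.sup c, fun n M hM a ha => ?_⟩
  refine Scheme.Modules.hom_ext _ _ fun V => ?_
  ext s
  refine M1.section_ext _ _ fun x hxV => ?_
  obtain ⟨y, hy, hxy⟩ := Set.mem_iUnion₂.1 (ht (Set.mem_univ x))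
  rw [← M1.germ_mres M (inf_le_left : V ⊓ W y ≤ V) ⟨hxV, hxy⟩,
    ← M1.germ_mres M (inf_le_left : V ⊓ W y ≤ V) ⟨hxV, hxy⟩]
  refine congrArg _ ?_
  show M1.mres M _ (mult (A := A) X a V • s) = M1.mres M _ 0
  rw [map_zero, M1.mres_smul]
  have hmem : multHom X (W y) a ∈ (J ^ n).map (multHom X (W y)) := by
    have h1 : multHom X (W y) a ∈ (I ^ (c y * n)).map (multHom X (W y)) :=
      Ideal.mem_map_of_mem _ (Ideal.pow_le_pow_right (Nat.mul_le_mul_right n (Finset.le_sup hy)) ha)
    rw [Ideal.map_pow, pow_mul, ← Ideal.map_pow] at h1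
    rw [Ideal.map_pow]
    exact Ideal.pow_right_mono (hc y) n h1
  let r := X.presheaf.map (homOfLE (inf_le_right : V ⊓ W y ≤ W y)).op
  have hr : ∀ b : A, r (multHom X (W y) b) = mult X b (V ⊓ W y) := fun b => by
    simp only [r, multHom, RingHom.coe_comp, Function.comp_apply, ← CommRingCat.comp_apply, ← Functor.map_comp]
    rfl
  have hr' : X.presheaf.map (homOfLE (inf_le_left : V ⊓ W y ≤ V)).op (mult X a V) = mult X a (V ⊓ W y) := by
    show X.presheaf.map _ (X.presheaf.map _ _) = _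
    rw [← CommRingCat.comp_apply, ← Functor.map_comp]
    rfl
  rw [hr', ← hr a]
  let S : Ideal Γ(X, W y) :=
    { carrier := {z | ∀ u : Γ(M, V ⊓ W y), r z • u = 0}
      zero_mem' := fun u => by rw [map_zero, zero_smul]
      add_mem' := fun hz hw u => by rw [map_add, add_smul, hz u, hw u, add_zero]
      smul_mem' := fun b z hz u => by rw [smul_eq_mul, map_mul, mul_smul, hz u, smul_zero] }
  have hS : (J ^ n).map (multHom X (W y)) ≤ S := Ideal.map_le_iff_le_comap.2 fun b hb u => by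
    rw [hr b]
    exact congrArg (fun φ : M ⟶ M => φ.app (V ⊓ W y) u) (hM b hb)
  exact hS hmem _

end Groth.Agent.CohChangeH7
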