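import Groth.Agent.Lib.CohChangeH7.Cofinal
import Groth.Agent.Lib.Algz27.Completion27
import Groth.Prelude.Def_Formal2

/-!
# Coherent formal systems only depend on the zero set
-/

set_option autoImplicit false
set_option linter.style.haveILetI false
set_option backward.isDefEq.respectTransparency false

universe u

open CategoryTheory CategoryTheory.Limits AlgebraicGeometry Opposite

noncomputable section

namespace Groth.Agent.CohChangeH7

open Groth.Agent Groth.Agent.GExistH7 Groth.Agent.FormalH7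

variable {A : Type u} [CommRing A] {X : Scheme.{u}} [X.Over (Spec (CommRingCat.of A))]

theorem isQuot_transfer {L L' : Ideal A} (htr : ∀ T : X.Modules, Formal.KilledBy L' T → Formal.KilledBy L T)
    {M N : X.Modules} {p : M ⟶ N} (h : IsQuot (L ⊔ L') p) : IsQuot L' p :=
  ⟨h.epi, fun a ha => h.smul a (Submodule.mem_sup_right ha), fun {T} φ hφ => by
    obtain ⟨φ', rfl⟩ := (isQuot_modIπ L' M).desc φ hφ
    refine h.desc _ (smul_sup_comp_eq_zero _ (fun a ha => ?_) hφ)
    have hk : Formal.KilledBy L' (modI L' M) := fun b hb => by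
      haveI := (isQuot_modIπ L' M).epi
      rw [← cancel_epi (modIπ L' M), ← smulMod_naturality, (isQuot_modIπ L' M).smul b hb, comp_zero]
    rw [smulMod_naturality_assoc, htr _ hk a ha, zero_comp, comp_zero]⟩

variable (I J : Ideal A) (c : ℕ)

/-- The index. -/
def idx (n : ℕ) : ℕ := c * (n + 1) + n

theorem idx_mono (n : ℕ) : idx c n ≤ idx c (n + 1) :=
  Nat.add_le_add (Nat.mul_le_mul_left c (by omega)) (Nat.le_succ n)

theorem le_idx (n : ℕ) : n ≤ idx c n := Nat.le_add_left _ _

theorem mul_le_idx (n : ℕ) : c * (n + 1) ≤ idx c n + 1 :=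
  (Nat.le_add_right _ _).trans (Nat.le_succ _)

variable {I J c}

/-- The quotient map. -/
def qT (J : Ideal A) (c : ℕ) (G : ℕᵒᵖ ⥤ X.Modules) (n : ℕ) :
    G.obj (op (idx c n)) ⟶ Formal.modPow J (n + 1) (G.obj (op (idx c n))) :=
  Formal.modPowπ J (n + 1) _

theorem isQuot_gm_qT (htr : Tr I J X c) {G : ℕᵒᵖ ⥤ X.Modules} (hG : IsSys I G) (n m : ℕ) (h : idx c n ≤ m) :
    IsQuot (J ^ (n + 1)) (gm G h ≫ qT J c G n) :=
  isQuot_transfer (fun T hT => killedBy_mono (Ideal.pow_le_pow_right (mul_le_idx c n)) (htr _ T hT))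
    ((hG.quot_gm h).trans_sup (isQuot_modPowπ J (n + 1) _))

variable (J c) in
/-- The transition map. -/
def tT (G : ℕᵒᵖ ⥤ X.Modules) (n : ℕ) :
    Formal.modPow J (n + 1 + 1) (G.obj (op (idx c (n + 1)))) ⟶ Formal.modPow J (n + 1) (G.obj (op (idx c n))) :=
  cokernel.desc _ (gm G (idx_mono c n) ≫ qT J c G n) ((smulFamily_comp_eq_zero_iff _).2 fun a ha => by
    rw [← Category.assoc, smulMod_naturality, Category.assoc, qT,
      (isQuot_modPowπ J (n + 1) _).smul a (Ideal.pow_le_pow_right (Nat.le_succ _) ha), comp_zero])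

theorem π_tT (G : ℕᵒᵖ ⥤ X.Modules) (n : ℕ) : qT J c G (n + 1) ≫ tT J c G n = gm G (idx_mono c n) ≫ qT J c G n :=
  cokernel.π_desc _ _ _

variable (J c) in
/-- The changed system. -/
def changeObj (G : ℕᵒᵖ ⥤ X.Modules) : ℕᵒᵖ ⥤ X.Modules :=
  Functor.ofOpSequence (X := fun n => Formal.modPow J (n + 1) (G.obj (op (idx c n)))) (tT J c G)

theorem isSys_changeObj [IsLocallyNoetherian X] (htr : Tr I J X c) {G : ℕᵒᵖ ⥤ X.Modules} (hG : IsSys I G) :
    IsSys J (changeObj J c G) :=
  isSys_ofOpSequence _ (fun n => Algz27C.isCoh_modPow J _ (hG.coh _)) (fun n => killedBy_modPow J _ _) fun n => by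
    haveI : Epi (qT J c G (n + 1)) := (isQuot_modPowπ J (n + 1 + 1) (G.obj (op (idx c (n + 1))))).epi
    refine IsQuot.of_comp (p := qT J c G (n + 1)) ?_
    rw [π_tT]
    exact isQuot_gm_qT htr hG n _ (idx_mono c n)

variable (J) in
/-- The map on reductions. -/
def red {M N : X.Modules} (f : M ⟶ N) (k : ℕ) : Formal.modPow J k M ⟶ Formal.modPow J k N :=
  cokernel.desc _ (f ≫ Formal.modPowπ J k N) ((smulFamily_comp_eq_zero_iff _).2 fun a ha => by
    rw [← Category.assoc, smulMod_naturality, Category.assoc, (isQuot_modPowπ J k N).smul a ha, comp_zero])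

theorem π_red {M N : X.Modules} (f : M ⟶ N) (k : ℕ) :
    Formal.modPowπ J k M ≫ red J f k = f ≫ Formal.modPowπ J k N :=
  cokernel.π_desc _ _ _

variable [IsLocallyNoetherian X]

/-- The functor changing the ideal. -/
def change (htr : Tr I J X c) : Formal2.CohFormalCat I X ⥤ Formal2.CohFormalCat J X :=
  ObjectProperty.lift _
    { obj := fun G => changeObj J c G.obj
      map := fun {G G'} φ => NatTrans.ofOpSequence (fun n => red J (φ.hom.app (op (idx c n))) (n + 1)) fun n => by
        refine (isQuot_modPowπ J (n + 1 + 1) _).hom_ext ?_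
        simp only [changeObj, Functor.ofOpSequence_map_homOfLE_succ]
        rw [← Category.assoc, ← Category.assoc, show Formal.modPowπ J (n + 1 + 1) _ ≫ tT J c G.obj n = _ from π_tT G.obj n,
          π_red, Category.assoc, Category.assoc,
          show Formal.modPowπ J (n + 1 + 1) _ ≫ tT J c G'.obj n = _ from π_tT G'.obj n, qT, π_red,
          ← Category.assoc, ← Category.assoc]
        exact congrArg (· ≫ _) (φ.hom.naturality _)
      map_id := fun G => NatTrans.ext (funext fun ⟨n⟩ => (isQuot_modPowπ J (n + 1) _).hom_ext (by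
        show Formal.modPowπ J (n + 1) _ ≫ red J _ (n + 1) = _
        rw [π_red]
        exact (Category.id_comp _).trans (Category.comp_id _).symm))
      map_comp := fun {G G' G''} φ ψ => NatTrans.ext (funext fun ⟨n⟩ => (isQuot_modPowπ J (n + 1) _).hom_ext (by
        show Formal.modPowπ J (n + 1) _ ≫ red J _ (n + 1) =
          Formal.modPowπ J (n + 1) _ ≫ red J _ (n + 1) ≫ red J _ (n + 1)
        rw [π_red, ← Category.assoc, π_red, Category.assoc, π_red, ← Category.assoc]
        rfl)) }
    (fun G => (isSys_changeObj htr (isSys_of_isCohFormal G.property)).isCohFormal)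

variable {d : ℕ}

/-- The composite quotient map. -/
def qq (I J : Ideal A) (c d : ℕ) (G : ℕᵒᵖ ⥤ X.Modules) (m : ℕ) :
    G.obj (op (idx c (idx d m))) ⟶ Formal.modPow I (m + 1) (Formal.modPow J (idx d m + 1) (G.obj (op (idx c (idx d m))))) :=
  qT J c G (idx d m) ≫ Formal.modPowπ I (m + 1) _

theorem gm_le_le (m : ℕ) : m ≤ idx c (idx d m) := (le_idx d m).trans (le_idx c _)

omit [IsLocallyNoetherian X] in
theorem isQuot_qq (htr' : Tr J I X d) (G : ℕᵒᵖ ⥤ X.Modules) (m : ℕ) : IsQuot (I ^ (m + 1)) (qq I J c d G m) :=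
  isQuot_transfer (fun T hT => killedBy_mono (Ideal.pow_le_pow_right (mul_le_idx d m)) (htr' _ T hT))
    ((isQuot_modPowπ J (idx d m + 1) _).trans_sup (isQuot_modPowπ I (m + 1) _))

variable (htr : Tr I J X c) (htr' : Tr J I X d)

/-- Changing twice, at a level. -/
def roundIso (G : Formal2.CohFormalCat I X) (m : ℕ) :
    G.obj.obj (op m) ≅ (((change htr ⋙ change htr').obj G).obj.obj (op m)) :=
  (((isSys_of_isCohFormal G.property).quot_gm (gm_le_le (c := c) (d := d) m)).exists_iso
    (isQuot_qq (c := c) htr' G.obj m)).choose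

theorem gm_roundIso (G : Formal2.CohFormalCat I X) (m : ℕ) :
    gm G.obj (gm_le_le (c := c) (d := d) m) ≫ (roundIso htr htr' G m).hom = qq I J c d G.obj m :=
  (((isSys_of_isCohFormal G.property).quot_gm (gm_le_le (c := c) (d := d) m)).exists_iso
    (isQuot_qq (c := c) htr' G.obj m)).choose_spec

omit [IsLocallyNoetherian X] in
theorem idx_le {j k : ℕ} (h : j ≤ k) : idx c j ≤ idx c k :=
  Nat.add_le_add (Nat.mul_le_mul_left c (Nat.succ_le_succ h)) h

omit [IsLocallyNoetherian X] in
theorem qT_gm (G : ℕᵒᵖ ⥤ X.Modules) {j k : ℕ} (h : j ≤ k) :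
    qT J c G k ≫ gm (changeObj J c G) h = gm G (idx_le (c := c) h) ≫ qT J c G j := by
  induction k, h using Nat.le_induction with
  | base =>
    rw [gm_refl, gm_refl]
    exact (Category.comp_id _).trans (Category.id_comp _).symm
  | succ k hk ih =>
    have h1 : gm (changeObj J c G) (Nat.le_succ k) = tT J c G k := Functor.ofOpSequence_map_homOfLE_succ _ k
    rw [← gm_comp (changeObj J c G) hk (Nat.le_succ k), h1]
    refine (Category.assoc _ _ _).symm.trans ?_
    refine (congrArg (· ≫ _) (π_tT G k)).trans ?_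
    refine (Category.assoc _ _ _).trans ((congrArg (_ ≫ ·) ih).trans ?_)
    exact (Category.assoc _ _ _).symm.trans (congrArg (· ≫ _) (gm_comp G _ _))

theorem roundIso_trans (G : Formal2.CohFormalCat I X) (n : ℕ) :
    gm G.obj (Nat.le_succ n) ≫ (roundIso htr htr' G n).hom =
      (roundIso htr htr' G (n + 1)).hom ≫ tT I d (changeObj J c G.obj) n := by
  haveI := ((isSys_of_isCohFormal G.property).quot_gm (gm_le_le (c := c) (d := d) (n + 1))).epi
  rw [← cancel_epi (gm G.obj (gm_le_le (c := c) (d := d) (n + 1)))]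
  refine (Category.assoc _ _ _).symm.trans ?_
  refine ((congrArg (· ≫ _) ((gm_comp G.obj _ _).trans
    (gm_comp G.obj (gm_le_le (c := c) (d := d) n) (idx_le (c := c) (idx_le (c := d) (Nat.le_succ n)))).symm)).trans
      ((Category.assoc _ _ _).trans (congrArg (_ ≫ ·) (gm_roundIso htr htr' G n)))).trans ?_
  refine Eq.trans ?_ ((congrArg (· ≫ tT I d (changeObj J c G.obj) n) (gm_roundIso htr htr' G (n + 1))).symm.trans
    (Category.assoc _ _ _))
  show gm G.obj _ ≫ qT J c G.obj (idx d n) ≫ qT I d (changeObj J c G.obj) n =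
    (qT J c G.obj (idx d (n + 1)) ≫ qT I d (changeObj J c G.obj) (n + 1)) ≫ tT I d (changeObj J c G.obj) n
  refine Eq.trans ?_ ((congrArg (_ ≫ ·) (π_tT (changeObj J c G.obj) n)).symm.trans (Category.assoc _ _ _).symm)
  exact (Category.assoc _ _ _).symm.trans ((congrArg (· ≫ _) (qT_gm G.obj (idx_mono d n))).symm.trans
    (Category.assoc _ _ _))

/-- Changing twice, at an object. -/
def roundObj (G : Formal2.CohFormalCat I X) :
    G.obj ≅ ((change htr ⋙ change htr').obj G).obj :=
  NatIso.ofComponents (fun n => roundIso htr htr' G n.unop) (by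
    let α : G.obj ⟶ ((change htr ⋙ change htr').obj G).obj :=
      NatTrans.ofOpSequence (fun n => (roundIso htr htr' G n).hom) fun n =>
        (roundIso_trans htr htr' G n).trans
          (congrArg ((roundIso htr htr' G (n + 1)).hom ≫ ·) (Functor.ofOpSequence_map_homOfLE_succ (X := fun k => Formal.modPow I (k + 1) ((changeObj J c G.obj).obj (op (idx d k)))) (tT I d (changeObj J c G.obj)) n).symm)
    intro i j f
    exact α.naturality f)

theorem roundObj_natural {G G' : Formal2.CohFormalCat I X} (φ : G ⟶ G') (m : ℕ) :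
    φ.hom.app (op m) ≫ (roundIso htr htr' G' m).hom =
      (roundIso htr htr' G m).hom ≫ red I (red J (φ.hom.app (op (idx c (idx d m)))) (idx d m + 1)) (m + 1) := by
  haveI := ((isSys_of_isCohFormal G.property).quot_gm (gm_le_le (c := c) (d := d) m)).epi
  rw [← cancel_epi (gm G.obj (gm_le_le (c := c) (d := d) m))]
  refine (Category.assoc _ _ _).symm.trans ((congrArg (· ≫ _) (φ.hom.naturality _)).trans
    ((Category.assoc _ _ _).trans ((congrArg (_ ≫ ·) (gm_roundIso htr htr' G' m)).trans ?_)))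
  refine Eq.trans ?_ ((congrArg (· ≫ red I (red J (φ.hom.app (op (idx c (idx d m)))) (idx d m + 1)) (m + 1))
    (gm_roundIso htr htr' G m)).symm.trans (Category.assoc _ _ _))
  refine Eq.trans ?_ (Category.assoc _ _ _).symm
  refine Eq.trans ?_ (congrArg (qT J c G.obj (idx d m) ≫ ·) (π_red (J := I) _ (m + 1))).symm
  exact (Category.assoc _ _ _).symm.trans ((congrArg (· ≫ _) (π_red (J := J) _ (idx d m + 1))).symm.trans
    (Category.assoc _ _ _))

/-- Changing twice. -/
def round : 𝟭 (Formal2.CohFormalCat I X) ≅ change htr ⋙ change htr' :=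
  NatIso.ofComponents (fun G => (ObjectProperty.fullyFaithfulι _).preimageIso (roundObj htr htr' G))
    fun φ => ObjectProperty.hom_ext _ (NatTrans.ext (funext fun k => roundObj_natural htr htr' φ k.unop))

omit [IsLocallyNoetherian X] in
/-- Coherent systems only depend on the zero set. -/
theorem nonempty_equivalence [AlgebraicGeometry.IsNoetherian X] (I J : Ideal A)
    (hV : ∀ x : X, I ≤ ((X ↘ Spec (CommRingCat.of A)) x).asIdeal ↔ J ≤ ((X ↘ Spec (CommRingCat.of A)) x).asIdeal) :
    Nonempty (Formal2.CohFormalCat I X ≌ Formal2.CohFormalCat J X) := by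
  obtain ⟨c, hc⟩ := exists_tr (I := I) (J := J) (fun x h => (hV x).2 h)
  obtain ⟨d, hd⟩ := exists_tr (I := J) (J := I) (fun x h => (hV x).1 h)
  exact ⟨CategoryTheory.Equivalence.mk (change hc) (change hd) (round hc hd) (round hd hc).symm⟩

end Groth.Agent.CohChangeH7
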